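import Groth.Agent.CohTwo.InjectiveQCoh
import Groth.Agent.CohTwo.InjectiveSections
import Groth.Agent.CohTwo.QCohInjective
import Groth.Agent.Duality.StalkHom
import Groth.Agent.S0563
import Groth.Agent.DerivedAdj.Devissage
import Groth.Prelude.Def_Models
import Mathlib.CategoryTheory.Abelian.Injective.Dimension
import Mathlib.CategoryTheory.Abelian.Projective.Dimension

/-!
On a regular scheme of dimension `d`, quasi-coherent modules have injective dimension at most `d`.
-/

set_option autoImplicit false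

universe u

open CategoryTheory CategoryTheory.Limits CategoryTheory.Pretriangulated AlgebraicGeometry
open CategoryTheory.Abelian (Ext)

attribute [local instance] HasDerivedCategory.standard

namespace Groth.RegExtVanish

open DerivedCategory

variable {X : Scheme.{u}}

/-- the local rings are no bigger than the space -/
theorem ringKrullDim_stalk_le (x : X) : ringKrullDim (X.presheaf.stalk x) ≤ topologicalKrullDim ↥X := by
  rw [ringKrullDim_stalk_eq_coheight,
    show topologicalKrullDim ↥X = Order.krullDim (↥X) from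
      Order.krullDim_eq_of_orderIso irreducibleSetEquivPoints]
  exact Order.coheight_le_krullDim x

/-- stalks of a regular scheme of dimension `d` have injective dimension at most `d` -/
theorem injDim_stalk (hreg : Models.IsRegularScheme X) (d : ℕ) (hd : topologicalKrullDim X = d) (x : X)
    (M : ModuleCat.{u} (X.presheaf.stalk x)) : HasInjectiveDimensionLT M (d + 1) := by
  haveI := hreg x
  have hle := ringKrullDim_stalk_le x
  rw [hd] at hle
  obtain ⟨m, hm⟩ : ∃ m : ℕ, ringKrullDim (X.presheaf.stalk x) = m := by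
    obtain ⟨k, hk⟩ := exists_eq_coe_of_ne_bot (ringKrullDim_ne_bot (R := X.presheaf.stalk x))
    rw [hk] at hle
    have : k ≤ (d : ℕ∞) := WithBot.coe_le_coe.1 hle
    obtain ⟨m, rfl⟩ := ENat.ne_top_iff_exists.1 (ne_top_of_le_ne_top (by simp) this)
    exact ⟨m, hk⟩
  have hmd : m ≤ d := by
    rw [hm] at hle
    exact_mod_cast hle
  refine HasInjectiveDimensionLT.mk fun i hi Y e => ?_
  haveI := Groth.Agent.S0563.result (X.presheaf.stalk x) m hm Y
  haveI : HasProjectiveDimensionLT Y i := hasProjectiveDimensionLT_of_ge Y (m + 1) i (by omega)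
  exact Ext.eq_zero_of_hasProjectiveDimensionLT e i le_rfl
where
  exists_eq_coe_of_ne_bot {k : WithBot ℕ∞} (h : k ≠ ⊥) : ∃ a : ℕ∞, k = a := by
    obtain ⟨a, ha⟩ := WithBot.ne_bot_iff_exists.1 h
    exact ⟨a, ha.symm⟩

variable [IsLocallyNoetherian X]

/-- injective dimension from the stalks -/
theorem injDim_of_stalks (k : ℕ) : ∀ (G : X.Modules), G.IsQuasicoherent →
    (∀ x : X, HasInjectiveDimensionLT (ModuleCat.of (X.presheaf.stalk x) (G.presheaf.stalk x)) (k + 1)) →
    HasInjectiveDimensionLT G (k + 1) := by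
  induction k with
  | zero =>
    intro G hG h
    haveI := hG
    haveI : Injective G := Groth.CohTwo.InjQCoh.injective_of_stalks G fun x =>
      haveI := h x
      (Module.injective_iff_injective_object _ _).2 (inferInstance : Injective _)
    infer_instance
  | succ k ih =>
    intro G hG h
    haveI := hG
    obtain ⟨Q, β, hβ, hQ, hQi⟩ := Groth.CohTwo.QCohInj.exists_mono_qcoh_injective G
    let S := ShortComplex.mk β (cokernel.π β) (cokernel.condition β)
    have hS : S.ShortExact := ⟨S.exact_of_g_is_cokernel (cokernelIsCokernel β)⟩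
    refine (hS.hasInjectiveDimensionLT_X₃_iff k hQi).1 (ih S.X₃ inferInstance fun x => ?_)
    haveI : Injective (Groth.Duality.StalkHom.stalkSC S x).X₂ :=
      (Module.injective_iff_injective_object _ _).1 (Groth.CohTwo.InjSec.injective_stalk Q x)
    exact ((Groth.Duality.StalkHom.shortExact_stalkSC hS x).hasInjectiveDimensionLT_X₃_iff k ‹_›).2 (h x)

/-- **injective dimension of quasi-coherent modules on a regular scheme** -/
theorem injDim (hreg : Models.IsRegularScheme X) (d : ℕ) (hd : topologicalKrullDim X = d) (G : X.Modules)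
    (hG : G.IsQuasicoherent) : HasInjectiveDimensionLT G (d + 1) :=
  injDim_of_stalks d G hG fun x => injDim_stalk hreg d hd x _

/-- no morphisms to high shifts -/
theorem hom_single_eq_zero (hreg : Models.IsRegularScheme X) (d : ℕ) (hd : topologicalKrullDim X = d)
    (F G : X.Modules) (hG : G.IsQuasicoherent) (n : ℤ) (hn : (d : ℤ) < n)
    (φ : (singleFunctor X.Modules 0).obj F ⟶ ((singleFunctor X.Modules 0).obj G)⟦n⟧) : φ = 0 := by
  obtain ⟨m, rfl⟩ := Int.eq_ofNat_of_zero_le (show 0 ≤ n by omega)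
  letI := HasExt.standard X.Modules
  haveI := injDim hreg d hd G hG
  haveI : HasInjectiveDimensionLT G m := hasInjectiveDimensionLT_of_ge G (d + 1) m (by omega)
  obtain ⟨x, rfl⟩ := Ext.homEquiv.surjective φ
  rw [x.eq_zero_of_hasInjectiveDimensionLT m le_rfl]
  exact Ext.zero_hom (X := F) (Y := G) (n := m)

section Devissage

variable {A : Type*} [Category* A] [Abelian A] [HasDerivedCategory A]

/-- vanishing of morphisms out of a bounded object -/
theorem eq_zero_src (Y : DerivedCategory A) (lo : ℤ)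
    (h : ∀ (M : A) (n : ℤ), lo ≤ n → ∀ φ : (singleFunctor A n).obj M ⟶ Y, φ = 0)
    (K : DerivedCategory A) (b : ℤ) [hge : K.IsGE lo] [hle : K.IsLE b] (φ : K ⟶ Y) : φ = 0 := by
  obtain ⟨k, hk⟩ : ∃ k : ℕ, b < lo + k := ⟨(b - lo + 1).toNat, by omega⟩
  induction k generalizing K b with
  | zero => exact ((TStructure.t : Triangulated.TStructure (DerivedCategory A)).isZero K b lo (by simpa using hk)).eq_of_src _ _
  | succ k ih =>
    rcases lt_or_ge b lo with hlt | hab
    · exact ((TStructure.t : Triangulated.TStructure (DerivedCategory A)).isZero K b lo hlt).eq_of_src _ _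
    obtain ⟨T, hT, h1, ⟨e₂⟩, e₁, ⟨e₃⟩⟩ := Groth.DerivedAdj.exists_top_triangle K b (b - 1) (by omega)
    haveI : IsGE T.obj₁ lo := by
      rw [isGE_iff]
      intro i hi
      exact (isZero_of_isGE K lo i hi).of_iso (e₁ i (by omega)).some
    obtain ⟨g, hg⟩ := Triangle.yoneda_exact₂ T hT (e₂.hom ≫ φ) (ih (hle := h1) T.obj₁ (b - 1) _ (by omega))
    have : g = 0 := by
      rw [← cancel_epi e₃.inv, comp_zero]
      exact h _ b hab _
    rw [← cancel_epi e₂.hom, hg, this, comp_zero, comp_zero]

/-- vanishing of morphisms into a bounded object -/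
theorem eq_zero_tgt (K : DerivedCategory A) (hi : ℤ) (P : A → Prop)
    (h : ∀ (M : A) (n : ℤ), P M → n ≤ hi → ∀ φ : K ⟶ (singleFunctor A n).obj M, φ = 0)
    (hiso : ∀ {M N : A}, (M ≅ N) → P M → P N)
    (L : DerivedCategory A) (lo b : ℤ) (hb : b ≤ hi) [hge : L.IsGE lo] [hle : L.IsLE b]
    (hP : ∀ i, lo ≤ i → i ≤ b → P ((homologyFunctor A i).obj L)) (φ : K ⟶ L) : φ = 0 := by
  obtain ⟨k, hk⟩ : ∃ k : ℕ, b < lo + k := ⟨(b - lo + 1).toNat, by omega⟩
  induction k generalizing L b with
  | zero => exact ((TStructure.t : Triangulated.TStructure (DerivedCategory A)).isZero L b lo (by simpa using hk)).eq_of_tgt _ _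
  | succ k ih =>
    rcases lt_or_ge b lo with hlt | hab
    · exact ((TStructure.t : Triangulated.TStructure (DerivedCategory A)).isZero L b lo hlt).eq_of_tgt _ _
    obtain ⟨T, hT, h1, ⟨e₂⟩, e₁, ⟨e₃⟩⟩ := Groth.DerivedAdj.exists_top_triangle L b (b - 1) (by omega)
    haveI : IsGE T.obj₁ lo := by
      rw [isGE_iff]
      intro i hi'
      exact (isZero_of_isGE L lo i hi').of_iso (e₁ i (by omega)).some
    obtain ⟨g, hg⟩ := Triangle.coyoneda_exact₂ T hT (φ ≫ e₂.inv) (by
      rw [← cancel_mono e₃.hom, zero_comp]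
      exact h _ b (hP b hab le_rfl) hb _)
    have : g = 0 := ih (hle := h1) T.obj₁ (b - 1) (by omega)
      (fun i h₁ h₂ => hiso (e₁ i h₂).some.symm (hP i h₁ (by omega))) g (by omega)
    rw [← cancel_mono e₂.inv, hg, this, zero_comp, zero_comp]

end Devissage

/-- no morphisms down more than the dimension -/
theorem hom_eq_zero (hreg : Models.IsRegularScheme X) (d : ℕ) (hd : topologicalKrullDim X = d)
    (K L : DCoh.D X) (a cK bL : ℤ) (hL : DCoh.IsCohD L) [K.IsGE (a + d)] [K.IsLE cK] [L.IsGE bL]
    [L.IsLE (a - 1)] (φ : K ⟶ L) : φ = 0 := by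
  refine eq_zero_tgt K (a - 1) (fun M => M.IsQuasicoherent) (fun G q hG hq ψ => ?_)
    (fun e h => (SheafOfModules.isQuasicoherent X.ringCatSheaf).prop_of_iso e h) L bL (a - 1) le_rfl (fun i _ _ => (hL i).1) φ
  refine eq_zero_src _ (a + d) (fun F p hp χ => ?_) K cK ψ
  let e : (singleFunctor X.Modules p).obj F ≅ ((singleFunctor X.Modules 0).obj F)⟦-p⟧ :=
    (((singleFunctors X.Modules).shiftIso (-p) p 0 (by omega)).app F).symm
  let e' : (singleFunctor X.Modules q).obj G ≅ (((singleFunctor X.Modules 0).obj G)⟦p - q⟧)⟦-p⟧ :=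
    (((singleFunctors X.Modules).shiftIso (-q) q 0 (by omega)).app G).symm ≪≫
      (shiftFunctorAdd' (DCoh.D X) (p - q) (-p) (-q) (by omega)).app _
  obtain ⟨ξ, hξ⟩ := (shiftFunctor (DCoh.D X) (-p)).map_surjective (e.inv ≫ χ ≫ e'.hom)
  rw [← cancel_epi e.inv, ← cancel_mono e'.hom, Category.assoc, ← hξ,
    hom_single_eq_zero hreg d hd F G hG (p - q) (by omega) ξ, Functor.map_zero, comp_zero, zero_comp]

end Groth.RegExtVanish
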